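import Mathlib
import Cfsg.Agent.H942.ImprimAlt
import Cfsg.Agent.H99.SylTwoDown
import Cfsg.Agent.S0713
import Cfsg.Agent.FastGrp
import Cfsg.Agent.Prune
set_option linter.all false
prune_inst 0x7ffffffbfef8fddfffff7e7ffef9dffe3bd6dfffffdffb4bffeffbffcfdf13673be9fbaf1de458ffded6e0be30b87853fbfeefffaf6fdc7ffffdfff45ffbec5f976fbf8c71d7be340ffe6ffffbf17fae7f3fffffffffffffffffffffffffffffffffffbfffff
open scoped Cfsg.Agent.FastGrp

-- part: H100/AltSyl/Base
section
/-!
# Overgroups of Sylow subgroups of the alternating groups: tools (helper100)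

* `existsUnique_coatom_iff...` : reduction of uniqueness;
* `exists_tau` : an `r`-subgroup of `Perm α`, `r ∣ |α|`, commutes with a fixed-point-free permutation of order `r`;
* `exists_part` : an `r`-group preserves a partition into sets of size `r`;
* `pow_dvd_card_orbit` : orbits of a Sylow subgroup;
* `eq_top_of_primitive` : Jordan's theorem.
-/

set_option autoImplicit false

namespace Cfsg.Agent.H100.AltSyl

open MulAction Equiv Equiv.Perm
open scoped Pointwise

/-! ### Uniqueness of the maximal overgroup -/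

section lattice

variable {G : Type*} [Group G] [Finite G]

theorem le_of_unique {R M0 : Subgroup G} (hu : ∀ M : Subgroup G, IsCoatom M ∧ R ≤ M → M = M0) {H : Subgroup G}
    (hH : H ≠ ⊤) (hR : R ≤ H) : H ≤ M0 := by
  rcases eq_top_or_exists_le_coatom H with h | ⟨M, hM, hle⟩
  · exact absurd h hH
  · rw [← hu M ⟨hM, hR.trans hle⟩]
    exact hle

theorem existsUnique_of {R H : Subgroup G} (hH : H ≠ ⊤) (hR : R ≤ H)
    (h : ∀ M : Subgroup G, IsCoatom M → R ≤ M → M ≤ H) : ∃! M : Subgroup G, IsCoatom M ∧ R ≤ M := by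
  have key : ∀ M : Subgroup G, IsCoatom M → R ≤ M → M = H := by
    intro M hM hRM
    rcases hM.le_iff.1 (h M hM hRM) with h1 | h1
    · exact absurd h1 hH
    · exact h1.symm
  rcases eq_top_or_exists_le_coatom H with h1 | ⟨M, hM, hle⟩
  · exact absurd h1 hH
  · have := key M hM (hR.trans hle)
    subst this
    exact ⟨M, ⟨hM, hR⟩, fun M' hM' => key M' hM'.1 hM'.2⟩

end lattice

/-! ### Orbits of Sylow subgroups -/

theorem pow_dvd_card_orbit {G X : Type*} [Group G] [Finite G] [MulAction G X] {p : ℕ} [hp : Fact p.Prime]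
    (R : Sylow p G) (x : X) :
    p ^ (Nat.card (orbit G x)).factorization p ∣ Nat.card (orbit (R : Subgroup G) x) := by
  have h1 : Nat.card (orbit G x) * Nat.card (stabilizer G x) = Nat.card G := by
    rw [← Nat.card_prod]; exact Nat.card_congr (orbitProdStabilizerEquivGroup G x)
  have h2 : Nat.card (orbit (R : Subgroup G) x) * Nat.card (stabilizer (R : Subgroup G) x) = Nat.card (R : Subgroup G) := by
    rw [← Nat.card_prod]; exact Nat.card_congr (orbitProdStabilizerEquivGroup (R : Subgroup G) x)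
  have h3 : Nat.card (R : Subgroup G) = p ^ (Nat.card G).factorization p := R.card_eq_multiplicity
  have h4 : Nat.card (stabilizer (R : Subgroup G) x) ∣ Nat.card (stabilizer G x) := by
    let f : stabilizer (R : Subgroup G) x →* stabilizer G x :=
      { toFun := fun g => ⟨(g : (R : Subgroup G)), g.2⟩
        map_one' := rfl
        map_mul' := fun _ _ => rfl }
    refine Subgroup.card_dvd_of_injective f ?_
    intro a b h
    exact Subtype.ext (Subtype.ext (congrArg (fun z => (z.1 : G)) h))
  have hf1 : Finite (orbit G x) := Finite.of_surjective (fun g : G => (⟨g • x, mem_orbit x g⟩ : orbit G x))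
    (by rintro ⟨_, g, rfl⟩; exact ⟨g, rfl⟩)
  have hne : Nonempty (orbit G x) := ⟨⟨x, mem_orbit_self x⟩⟩
  have hp1 : Nat.card (orbit G x) ≠ 0 := Nat.card_pos.ne'
  have hp2 : Nat.card (stabilizer G x) ≠ 0 := Nat.card_pos.ne'
  obtain ⟨c, hc, hc'⟩ := (Nat.dvd_prime_pow hp.out).1 (h3 ▸ Dvd.intro _ h2)
  obtain ⟨b, hb, hb'⟩ := (Nat.dvd_prime_pow hp.out).1 (h3 ▸ Dvd.intro_left _ h2)
  rw [hc']
  apply pow_dvd_pow
  have h5 : c + b = (Nat.card G).factorization p := by
    rw [hc', hb', h3, ← pow_add] at h2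
    exact Nat.pow_right_injective hp.out.two_le h2
  have h6 : (Nat.card G).factorization p = (Nat.card (orbit G x)).factorization p +
      (Nat.card (stabilizer G x)).factorization p := by
    rw [← h1, Nat.factorization_mul hp1 hp2, Finsupp.add_apply]
  have h7 : b ≤ (Nat.card (stabilizer G x)).factorization p := by
    rw [hb'] at h4
    exact (hp.out.pow_dvd_iff_le_factorization hp2).1 h4
  omega

/-! ### Invariant partitions -/

variable {α : Type*} [Fintype α] [DecidableEq α]

/-- The orbits of a `p`-group commuting with a fixed-point-free permutation of order `p`. -/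
theorem exists_tau {p : ℕ} [hp : Fact p.Prime] (R : Subgroup (Perm α)) (hR : IsPGroup p R) {m : ℕ} (hm : 1 ≤ m)
    (hα : Fintype.card α = p * m) :
    ∃ τ : Perm α, τ.cycleType = Multiset.replicate m p ∧ ∀ g ∈ R, g * τ = τ * g := by
  obtain ⟨τ, hτ⟩ := (exists_with_cycleType_iff α (m := Multiset.replicate m p)).mpr (by
    constructor
    · rw [Multiset.sum_replicate, hα, smul_eq_mul, mul_comm]
    · intro a ha
      rw [Multiset.eq_of_mem_replicate ha]
      exact hp.out.two_le)
  have hcard := Subgroup.card_mul_index (Subgroup.centralizer {τ})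
  rw [nat_card_centralizer, hτ, Multiset.sum_replicate, hα, Multiset.prod_replicate,
    smul_eq_mul, mul_comm m p, Nat.sub_self, Nat.factorial_zero, one_mul, Nat.card_perm,
    Nat.card_eq_fintype_card, hα] at hcard
  have h2 : (Multiset.replicate m p).toFinset = {p} := by
    rw [Multiset.toFinset_replicate, if_neg (by omega)]
  rw [h2, Finset.prod_singleton, Multiset.count_replicate_self] at hcard
  have hidx : ¬ p ∣ (Subgroup.centralizer {τ}).index := by
    intro hdvd
    have hne : (Subgroup.centralizer {τ}).index ≠ 0 := by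
      intro h0
      rw [h0, mul_zero] at hcard
      exact (Nat.factorial_ne_zero _) hcard.symm
    have h3 := congrArg (fun k => k.factorization p) hcard
    rw [Nat.factorization_mul (mul_ne_zero (pow_ne_zero _ hp.out.ne_zero) (Nat.factorial_ne_zero _)) hne,
      Nat.factorization_mul (pow_ne_zero _ hp.out.ne_zero) (Nat.factorial_ne_zero _), Finsupp.add_apply, Finsupp.add_apply,
      Nat.Prime.factorization_pow hp.out, Finsupp.single_eq_same, Nat.factorization_factorial_mul hp.out] at h3
    have h4 := hp.out.factorization_pos_of_dvd hne hdvd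
    omega
  obtain ⟨g, hg⟩ := Cfsg.Agent.H99.exists_conj_le (p := p) R (Subgroup.centralizer {τ}) hR hidx
  refine ⟨g * τ * g⁻¹, by rw [cycleType_conj, hτ], fun r hr => ?_⟩
  have h := Subgroup.mem_centralizer_singleton_iff.mp (hg r hr)
  calc r * (g * τ * g⁻¹) = g * ((g⁻¹ * r * g) * τ) * g⁻¹ := by group
    _ = g * (τ * (g⁻¹ * r * g)) * g⁻¹ := by rw [h]
    _ = g * τ * g⁻¹ * r := by group

end Cfsg.Agent.H100.AltSyl
end

-- part: H100/AltSyl/Part
section
/-!
# Invariant partitions of `p`-groups (helper100)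
-/

set_option autoImplicit false

namespace Cfsg.Agent.H100.AltSyl

open MulAction Equiv Equiv.Perm
open scoped Pointwise
open Cfsg.Agent.H942 (part mem_part)

section

variable {α : Type*} [Fintype α] [DecidableEq α]

/-- the translation by `1` on the fibres `Fin m × ZMod p` -/
def tau0 (m p : ℕ) : Perm (Fin m × ZMod p) := Equiv.prodCongr (Equiv.refl _) (Equiv.addRight 1)

theorem tau0_apply (m p : ℕ) (x : Fin m × ZMod p) : tau0 m p x = (x.1, x.2 + 1) := rfl

theorem tau0_pow_apply (m p k : ℕ) (x : Fin m × ZMod p) : (tau0 m p ^ k) x = (x.1, x.2 + k) := by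
  induction k with
  | zero => simp only [_root_.pow_zero, _root_.Equiv.Perm.coe_one, _root_.id_eq, _root_.Nat.cast_zero, _root_.add_zero, _root_.Prod.mk.eta]
  | succ k ih => rw [pow_succ', Perm.mul_apply, ih, tau0_apply, Nat.cast_succ, add_assoc]

theorem cycleType_free {p : ℕ} [hp : Fact p.Prime] {σ : Perm α} (h1 : σ ^ p = 1) (hne : ∀ x, σ x ≠ x) {m : ℕ}
    (hm : 1 ≤ m) (hα : Fintype.card α = p * m) : σ.cycleType = Multiset.replicate m p := by
  have h0 : 0 < Fintype.card α := by rw [hα]; exact Nat.mul_pos hp.out.pos hm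
  obtain ⟨x0⟩ := Fintype.card_pos_iff.1 h0
  have h2 : σ ≠ 1 := by
    intro h
    exact hne x0 (by rw [h]; rfl)
  have h3 : orderOf σ = p := orderOf_eq_prime h1 h2
  obtain ⟨k, hk⟩ := cycleType_prime_order (σ := σ) (by rw [h3]; exact hp.out)
  rw [h3] at hk
  have h4 : σ.support = Finset.univ := by
    rw [Finset.eq_univ_iff_forall]
    intro x
    exact Perm.mem_support.2 (hne x)
  have h5 := sum_cycleType σ
  rw [h4, hk, Multiset.sum_replicate, Finset.card_univ, hα, smul_eq_mul, mul_comm p m] at h5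
  have h6 : k + 1 = m := Nat.eq_of_mul_eq_mul_right hp.out.pos h5
  rw [hk, h6]

/-- A `p`-group of permutations preserves a partition into sets of size `p`, whose classes are the cycles of a permutation. -/
theorem exists_part {p : ℕ} [hp : Fact p.Prime] (R : Subgroup (Perm α)) (hR : IsPGroup p R) {m : ℕ} (hm : 1 ≤ m)
    (hα : Fintype.card α = p * m) :
    ∃ f : α → Fin m, (∀ i : Fin m, Nat.card {x : α // f x = i} = p) ∧ R ≤ part f := by
  obtain ⟨τ, hτ, hc⟩ := exists_tau R hR hm hα
  have e : α ≃ Fin m × ZMod p := Fintype.equivOfCardEq (by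
    rw [hα, Fintype.card_prod, Fintype.card_fin, ZMod.card, mul_comm])
  have hpw : ∀ k : ℕ, (e.symm.permCongr (tau0 m p)) ^ k = e.symm.permCongr (tau0 m p ^ k) := by
    intro k
    have := map_pow (e.symm.permCongrHom) (tau0 m p) k
    exact this.symm
  have h1 : (e.symm.permCongr (tau0 m p)).cycleType = τ.cycleType := by
    rw [hτ]
    refine cycleType_free ?_ ?_ hm hα
    · rw [hpw]
      ext x
      rw [Equiv.permCongr_apply, tau0_pow_apply, ZMod.natCast_self, add_zero]
      simp
    · intro x h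
      rw [Equiv.permCongr_apply, tau0_apply, Equiv.symm_apply_eq] at h
      have h2 := congrArg Prod.snd h
      have h3 : (1 : ZMod p) = 0 := by simp at h2
      exact one_ne_zero h3
  obtain ⟨g, hg⟩ := isConj_iff.1 (isConj_of_cycleType_eq h1)
  -- `g * t * g⁻¹ = τ`
  have hpow : ∀ (k : ℕ) (x : α), (τ ^ k) x = g (e.symm ((e (g⁻¹ x)).1, (e (g⁻¹ x)).2 + k)) := by
    intro k x
    have h2 : τ ^ k = g * (e.symm.permCongr (tau0 m p)) ^ k * g⁻¹ := by
      rw [← hg, conj_pow]
    rw [h2, hpw, Perm.mul_apply, Perm.mul_apply]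
    congr 1
    rw [Equiv.permCongr_apply, tau0_pow_apply]
    rfl
  refine ⟨fun x => (e (g⁻¹ x)).1, ?_, ?_⟩
  · intro i
    have e2 : {x : α // (e (g⁻¹ x)).1 = i} ≃ ZMod p :=
      { toFun := fun x => (e (g⁻¹ x.1)).2
        invFun := fun a => ⟨g (e.symm (i, a)), by simp⟩
        left_inv := by
          rintro ⟨x, rfl⟩
          simp
        right_inv := by
          intro a
          simp }
    rw [Nat.card_congr e2, Nat.card_zmod]
  · intro r hr
    rw [mem_part]
    have key : ∀ x y : α, (e (g⁻¹ x)).1 = (e (g⁻¹ y)).1 ↔ ∃ k : ℕ, (τ ^ k) x = y := by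
      intro x y
      constructor
      · intro h
        refine ⟨((e (g⁻¹ y)).2 - (e (g⁻¹ x)).2).val, ?_⟩
        rw [hpow, ZMod.natCast_val, ZMod.cast_id', id, h]
        have : ((e (g⁻¹ y)).1, (e (g⁻¹ x)).2 + ((e (g⁻¹ y)).2 - (e (g⁻¹ x)).2)) = e (g⁻¹ y) := by
          ext
          · rfl
          · simp
        rw [this]
        simp
      · rintro ⟨k, rfl⟩
        rw [hpow]
        simp
    intro x y
    rw [key, key]
    have hk : ∀ k : ℕ, r * τ ^ k = τ ^ k * r := fun k => ((show Commute r τ from hc r hr).pow_right k)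
    constructor
    · rintro ⟨k, rfl⟩
      refine ⟨k, ?_⟩
      have := congrArg (fun σ : Perm α => σ x) (hk k)
      exact this.symm
    · rintro ⟨k, h⟩
      refine ⟨k, ?_⟩
      have := congrArg (fun σ : Perm α => σ x) (hk k)
      simp only [Perm.mul_apply] at this
      rw [h] at this
      exact r.injective this

/-! ### The action on the classes -/

variable {m : ℕ} {f : α → Fin m}

/-- the permutation induced on the classes -/
noncomputable def onClasses (hf : Function.Surjective f) : part f →* Perm (Fin m) where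
  toFun g :=
    { toFun := fun i => f ((g : Perm α) (Function.surjInv hf i))
      invFun := fun i => f ((g : Perm α)⁻¹ (Function.surjInv hf i))
      left_inv := by
        intro i
        have h := (mem_part.1 ((part f).inv_mem g.2)) (Function.surjInv hf (f ((g : Perm α) (Function.surjInv hf i))))
          ((g : Perm α) (Function.surjInv hf i))
        have h2 := h.1 (Function.surjInv_eq hf _)
        show f ((g : Perm α)⁻¹ (Function.surjInv hf (f ((g : Perm α) (Function.surjInv hf i))))) = i
        rw [h2]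
        simp [Function.surjInv_eq hf]
      right_inv := by
        intro i
        have h := (mem_part.1 g.2) (Function.surjInv hf (f ((g : Perm α)⁻¹ (Function.surjInv hf i))))
          ((g : Perm α)⁻¹ (Function.surjInv hf i))
        have h2 := h.1 (Function.surjInv_eq hf _)
        show f ((g : Perm α) (Function.surjInv hf (f ((g : Perm α)⁻¹ (Function.surjInv hf i))))) = i
        rw [h2]
        simp [Function.surjInv_eq hf] }
  map_one' := by
    ext i
    simp only [Function.surjInv_eq hf, _root_.OneMemClass.coe_one, _root_.Equiv.Perm.coe_one, _root_.id_eq, _root_.inv_one, _root_.Equiv.coe_fn_mk]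
  map_mul' := by
    intro g h
    apply Equiv.ext
    intro i
    show f (((g * h : part f) : Perm α) (Function.surjInv hf i)) = f ((g : Perm α) (Function.surjInv hf (f ((h : Perm α) (Function.surjInv hf i)))))
    rw [(mem_part.1 g.2 _ _).1 (Function.surjInv_eq hf (f ((h : Perm α) (Function.surjInv hf i))))]
    rfl

omit [Fintype α] [DecidableEq α] in
theorem onClasses_apply (hf : Function.Surjective f) (g : part f) (x : α) :
    onClasses hf g (f x) = f ((g : Perm α) x) := by
  show f ((g : Perm α) (Function.surjInv hf (f x))) = _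
  exact (mem_part.1 g.2 _ _).1 (Function.surjInv_eq hf (f x))

omit [Fintype α] [DecidableEq α] in
theorem surjective_of_card {a : ℕ} (ha : 1 ≤ a) (hf : ∀ i : Fin m, Nat.card {x : α // f x = i} = a) :
    Function.Surjective f := by
  intro i
  have h : 0 < Nat.card {x : α // f x = i} := by rw [hf i]; exact ha
  obtain ⟨⟨x, hx⟩⟩ := (Nat.card_pos_iff.1 h).1
  exact ⟨x, hx⟩

/-- nested invariant partitions with classes of sizes `p` and `p ^ 2` -/
theorem exists_part2 {p : ℕ} [hp : Fact p.Prime] (R : Subgroup (Perm α)) (hR : IsPGroup p R) {m' : ℕ} (hm : 1 ≤ m')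
    (hα : Fintype.card α = p * (p * m')) :
    ∃ (f : α → Fin (p * m')) (h : Fin (p * m') → Fin m'), (∀ i, Nat.card {x : α // f x = i} = p) ∧
      (∀ j, Nat.card {i // h i = j} = p) ∧ (∀ j, Nat.card {x : α // h (f x) = j} = p * p) ∧ R ≤ part f ∧ R ≤ part (h ∘ f) := by
  obtain ⟨f, hf, hRf⟩ := exists_part R hR (m := p * m') (Nat.mul_pos hp.out.pos hm) hα
  have hsurj := surjective_of_card hp.out.pos hf
  let ρ : R →* Perm (Fin (p * m')) := (onClasses hsurj).comp (Subgroup.inclusion hRf)
  have hρ : IsPGroup p ρ.range := by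
    exact hR.of_surjective ρ.rangeRestrict ρ.rangeRestrict_surjective
  obtain ⟨h, hh, hRh⟩ := exists_part ρ.range hρ (m := m') hm (by rw [Fintype.card_fin])
  refine ⟨f, h, hf, hh, ?_, hRf, ?_⟩
  · intro j
    have e : {x : α // h (f x) = j} ≃ Σ i : {i // h i = j}, {x : α // f x = i} :=
      { toFun := fun x => ⟨⟨f x.1, x.2⟩, ⟨x.1, rfl⟩⟩
        invFun := fun y => ⟨y.2.1, by rw [y.2.2]; exact y.1.2⟩
        left_inv := fun x => rfl
        right_inv := by
          rintro ⟨⟨i, hi⟩, ⟨x, hx⟩⟩
          change f x = i at hx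
          subst hx
          rfl }
    have : Nat.card {x : α // h (f x) = j} = ∑ i : {i // h i = j}, Nat.card {x : α // f x = i} := by
      rw [Nat.card_congr e, Nat.card_sigma]
    rw [this, Finset.sum_congr rfl (fun i _ => hf i.1), Finset.sum_const, Finset.card_univ, ← Nat.card_eq_fintype_card, hh j]
    rfl
  · intro r hr
    rw [mem_part]
    intro x y
    have h1 := (mem_part.1 (hRh (MonoidHom.mem_range.2 ⟨⟨r, hr⟩, rfl⟩ : ρ ⟨r, hr⟩ ∈ ρ.range))) (f x) (f y)
    have h2 : ∀ z, ρ ⟨r, hr⟩ (f z) = f (r z) := fun z => onClasses_apply hsurj _ z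
    rw [h2, h2] at h1
    exact h1

end

end Cfsg.Agent.H100.AltSyl
end

-- part: H100/AltSyl/Fwd
section
/-!
# Unique maximal overgroups of Sylow subgroups of the alternating groups: necessity, `n ≠ r` (helper100)
-/

set_option autoImplicit false

namespace Cfsg.Agent.H100.AltSyl

open MulAction Equiv Equiv.Perm
open scoped Pointwise
open Cfsg.Agent.H942 (part mem_part c3 c3_apply_left c3_apply_mid c3_apply_right c3_apply_other swap_mem_part
  isCoatom_part_alt)

/-- The top digit. -/
theorem not_dvd_choose_pow_log {p : ℕ} [hp : Fact p.Prime] {n : ℕ} (hn : 1 ≤ n) : ¬ p ∣ n.choose (p ^ Nat.log p n) := by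
  set k := Nat.log p n with hk
  have h1 : p ^ k ≤ n := Nat.pow_log_le_self p (by omega)
  have h2 : n < p ^ (k + 1) := Nat.lt_pow_succ_log_self hp.out.one_lt n
  have hpk : 0 < p ^ k := pow_pos hp.out.pos k
  have h3 := Choose.choose_modEq_prod_range_choose_nat (p := p) (n := n) (k := p ^ k) (a := k + 1) h2
    (Nat.pow_lt_pow_right hp.out.one_lt (Nat.lt_succ_self k))
  rw [Finset.prod_range_succ] at h3
  have h4 : ∏ i ∈ Finset.range k, (n / p ^ i % p).choose (p ^ k / p ^ i % p) = 1 := by
    apply Finset.prod_eq_one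
    intro i hi
    have hi' := Finset.mem_range.1 hi
    have h5 : p ^ k / p ^ i % p = 0 := by
      rw [Nat.pow_div hi'.le hp.out.pos]
      exact Nat.mod_eq_zero_of_dvd (dvd_pow_self p (by omega))
    rw [h5, Nat.choose_zero_right]
  have h6 : n / p ^ k < p := by
    rw [Nat.div_lt_iff_lt_mul hpk]
    rw [pow_succ] at h2
    linarith only [h2]
  have h7 : 1 ≤ n / p ^ k := (Nat.one_le_div_iff hpk).2 h1
  rw [h4, one_mul, Nat.div_self hpk, Nat.mod_eq_of_lt h6, Nat.mod_eq_of_lt hp.out.one_lt, Nat.choose_one_right] at h3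
  intro h8
  have h9 : n / p ^ k ≡ 0 [MOD p] := h3.symm.trans ((Nat.modEq_zero_iff_dvd).2 h8)
  rw [Nat.modEq_zero_iff_dvd] at h9
  have := Nat.le_of_dvd h7 h9
  omega

section

variable {α : Type*} [Fintype α] [DecidableEq α]

theorem c3_mem_alt {x y z : α} (hxy : x ≠ y) (hyz : y ≠ z) : c3 x y z ∈ alternatingGroup α := by
  rw [mem_alternatingGroup]
  show sign (swap x y * swap y z) = 1
  rw [Perm.sign_mul, sign_swap hxy, sign_swap hyz]
  rfl

theorem c3_not_mem_part {m : ℕ} {f : α → Fin m} {a b c : α} (hab : a ≠ b) (hf : f a = f b) (hc : f c ≠ f a) :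
    c3 a b c ∉ part f := by
  intro h
  have hac : a ≠ c := by rintro rfl; exact hc rfl
  have hbc : b ≠ c := by rintro rfl; exact hc hf.symm
  have h1 := (mem_part.1 h a b).1 hf
  rw [c3_apply_left hab hac, c3_apply_mid hac hbc] at h1
  exact hc (by rw [hf, h1])

theorem c3_mem_part {m : ℕ} {f : α → Fin m} {a b c : α} (hab : f a = f b) (hbc : f b = f c) : c3 a b c ∈ part f :=
  (part f).mul_mem (swap_mem_part hab) (swap_mem_part hbc)

theorem c3_smul {a b c : α} {t : Set α} (ha : a ∈ t) (hb : b ∈ t) (hc : c ∈ t) : c3 a b c • t = t := by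
  have h2 : ∀ {u v : α}, u ∈ t → v ∈ t → swap u v • t = t := by
    intro u v hu hv
    have h3 : ∀ x ∈ t, swap u v • x ∈ t := by
      intro x hx
      show swap u v x ∈ t
      rcases eq_or_ne x u with rfl | h1
      · rw [swap_apply_left]; exact hv
      rcases eq_or_ne x v with rfl | h2
      · rw [swap_apply_right]; exact hu
      · rw [swap_apply_of_ne_of_ne h1 h2]; exact hx
    apply Set.Subset.antisymm
    · rintro _ ⟨x, hx, rfl⟩
      exact h3 x hx
    · intro x hx
      refine ⟨swap u v • x, h3 x hx, ?_⟩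
      show swap u v (swap u v x) = x
      rw [swap_apply_self]
  show (swap a b * swap b c) • t = t
  rw [mul_smul, h2 hb hc, h2 ha hb]

/-- a set of more than half of the points separates -/
theorem not_stab_le_part {m p : ℕ} {f : α → Fin m} (hp : 3 ≤ p) (hm : 2 ≤ m) (hf : ∀ i, Nat.card {x : α // f x = i} = p)
    (s : Set α) (hs : Nat.card α ≠ 2 * s.ncard) :
    ¬ (stabilizer (alternatingGroup α) s ≤ (part f ⊓ alternatingGroup α).subgroupOf (alternatingGroup α)) := by
  have hcard : Nat.card α = m * p := by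
    have e : α ≃ Σ i : Fin m, {x : α // f x = i} := (Equiv.sigmaFiberEquiv f).symm
    rw [Nat.card_congr e, Nat.card_sigma, Finset.sum_congr rfl (fun i _ => hf i), Finset.sum_const, Finset.card_univ,
      Fintype.card_fin, smul_eq_mul]
  -- choose the larger one
  obtain ⟨t, ht, hst⟩ : ∃ t : Set α, Nat.card α < 2 * t.ncard ∧ (t = s ∨ t = sᶜ) := by
    have h1 := Set.ncard_add_ncard_compl s
    rcases lt_or_gt_of_ne hs with h | h
    · exact ⟨s, h, Or.inl rfl⟩
    · exact ⟨sᶜ, by omega, Or.inr rfl⟩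
  -- two points of `t` in one fibre
  have h1 : m < t.ncard := by nlinarith
  obtain ⟨a, ha, b, hb, hab, hfab⟩ : ∃ a ∈ t, ∃ b ∈ t, a ≠ b ∧ f a = f b := by
    by_contra hcon
    push Not at hcon
    have hinj : Set.InjOn f t := by
      intro a ha b hb h
      by_contra hne
      exact hcon a ha b hb hne h
    have h2 := Set.ncard_le_ncard_of_injOn f (s := t) (t := (Set.univ : Set (Fin m))) (fun _ _ => Set.mem_univ _) hinj
    rw [Set.ncard_univ, Nat.card_fin] at h2
    omega
  obtain ⟨c, hc, hfc⟩ : ∃ c ∈ t, f c ≠ f a := by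
    by_contra hcon
    push Not at hcon
    have h2 : t ⊆ {x | f x = f a} := hcon
    have h3 := Set.ncard_le_ncard h2
    have h4 : {x | f x = f a}.ncard = p := hf (f a)
    rw [h4] at h3
    nlinarith only [hm, hcard, ht, h3]
  intro hle
  have hbc : b ≠ c := by rintro rfl; exact hfc hfab.symm
  have h5 : (⟨c3 a b c, c3_mem_alt hab hbc⟩ : alternatingGroup α) ∈ stabilizer (alternatingGroup α) s := by
    rw [mem_stabilizer_iff]
    show c3 a b c • s = s
    have h6 := c3_smul ha hb hc
    rcases hst with rfl | rfl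
    · exact h6
    · rw [Set.smul_set_compl, compl_inj_iff] at h6
      exact h6
  exact c3_not_mem_part hab hfab hfc ((Subgroup.mem_subgroupOf.1 (hle h5)).1)

theorem not_part_le_part {m m' p : ℕ} (hp : 2 ≤ p) (hm : 1 ≤ m') {f : α → Fin m} {h : Fin m → Fin m'}
    (hf : ∀ i, Nat.card {x : α // f x = i} = p) (hh : ∀ j, Nat.card {i // h i = j} = p) :
    ¬ ((part (h ∘ f) ⊓ alternatingGroup α).subgroupOf (alternatingGroup α) ≤
      (part f ⊓ alternatingGroup α).subgroupOf (alternatingGroup α)) := by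
  obtain ⟨i1, i2, hi1, hi2, hi⟩ : ∃ i1 i2 : Fin m, h i1 = ⟨0, hm⟩ ∧ h i2 = ⟨0, hm⟩ ∧ i1 ≠ i2 := by
    have h1 : 1 < Nat.card {i // h i = ⟨0, hm⟩} := by rw [hh]; omega
    obtain ⟨⟨a, ha⟩, ⟨b, hb⟩, hab⟩ := (Finite.one_lt_card_iff_nontrivial.1 h1).exists_pair_ne
    exact ⟨a, b, ha, hb, fun h => hab (Subtype.ext h)⟩
  obtain ⟨a, b, ha, hb, hab⟩ : ∃ a b : α, f a = i1 ∧ f b = i1 ∧ a ≠ b := by
    have h1 : 1 < Nat.card {x // f x = i1} := by rw [hf]; omega
    obtain ⟨⟨a, ha⟩, ⟨b, hb⟩, hab⟩ := (Finite.one_lt_card_iff_nontrivial.1 h1).exists_pair_ne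
    exact ⟨a, b, ha, hb, fun h => hab (Subtype.ext h)⟩
  obtain ⟨c, hc⟩ := surjective_of_card (by omega : 1 ≤ p) hf i2
  have hfc : f c ≠ f a := by rw [hc, ha]; exact hi.symm
  have hbc : b ≠ c := by rintro rfl; exact hi (hb.symm.trans hc)
  intro hle
  have h1 : (⟨c3 a b c, c3_mem_alt hab hbc⟩ : alternatingGroup α) ∈
      (part (h ∘ f) ⊓ alternatingGroup α).subgroupOf (alternatingGroup α) := by
    rw [Subgroup.mem_subgroupOf]
    refine ⟨c3_mem_part ?_ ?_, c3_mem_alt hab hbc⟩
    · simp only [Function.comp_apply, ha, hb]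
    · simp only [Function.comp_apply, hb, hc, hi1, hi2]
  exact c3_not_mem_part hab (ha.trans hb.symm) hfc ((Subgroup.mem_subgroupOf.1 (hle h1)).1)

/-! ### The unique maximal overgroup -/

theorem isPGroup_map {p : ℕ} (R : Subgroup (alternatingGroup α)) (hR : IsPGroup p R) :
    IsPGroup p (R.map (alternatingGroup α).subtype) := hR.map _

theorem le_subgroupOf {R : Subgroup (alternatingGroup α)} {X : Subgroup (Perm α)}
    (h : R.map (alternatingGroup α).subtype ≤ X) : R ≤ (X ⊓ alternatingGroup α).subgroupOf (alternatingGroup α) := by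
  intro r hr
  rw [Subgroup.mem_subgroupOf]
  exact ⟨h ⟨r, hr, rfl⟩, r.2⟩

/-- Necessity when `r ∣ n`, `r ≠ n`. -/
theorem fwd_dvd {p : ℕ} [hp : Fact p.Prime] (hp2 : p ≠ 2) {n : ℕ} (hα : Fintype.card α = n) (hpn : p ∣ n) (hne : n ≠ p)
    (hn : 7 ≤ n) (R : Subgroup (alternatingGroup α)) (hR : IsPGroup p R)
    (hu : ∃! M : Subgroup (alternatingGroup α), IsCoatom M ∧ R ≤ M) : n = 2 * p ∨ n = p ^ 2 := by
  obtain ⟨M0, -, hM0⟩ := hu
  have hp3 : 3 ≤ p := by
    have := hp.out.two_le
    omega
  obtain ⟨m, rfl⟩ := hpn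
  have hm1 : 1 ≤ m := by
    rcases Nat.eq_zero_or_pos m with rfl | h
    · simp at hn
    · exact h
  have hm : 2 ≤ m := by
    rcases Nat.lt_or_ge 1 m with h | h
    · exact h
    · exact absurd (show p * m = p by rw [show m = 1 by omega, mul_one]) hne
  have h8 : Fintype.card α ≠ 8 := by
    rw [hα]
    intro h
    have h1 : p ∣ 2 ^ 3 := ⟨m, by norm_num; omega⟩
    have h2 := (Nat.prime_dvd_prime_iff_eq hp.out Nat.prime_two).1 (hp.out.dvd_of_dvd_pow h1)
    omega
  have hmap := isPGroup_map R hR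
  obtain ⟨f, hf, hRf⟩ := exists_part (R.map (alternatingGroup α).subtype) hmap hm1 hα
  have hM1 := hM0 _ ⟨isCoatom_part_alt h8 (by omega : 2 ≤ p) hm hf, le_subgroupOf hRf⟩
  -- the invariant sets
  have key : ∀ j : ℕ, 0 < j → j < p * m → ¬ p ∣ (p * m).choose j → p * m = 2 * j := by
    intro j hj0 hj hj2
    by_contra hne2
    obtain ⟨s, hs, hRs⟩ := Cfsg.Agent.H99.exists_set (α := α) R hR j (by rwa [hα])
    have hcard : Nat.card α = p * m := by rw [Nat.card_eq_fintype_card, hα]
    have h1 : IsCoatom (stabilizer (alternatingGroup α) s) := by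
      refine alternatingGroup.isCoatom_stabilizer ?_ ?_ ?_
      · rw [← Set.ncard_pos]; omega
      · rw [← Set.ncard_pos]
        have := Set.ncard_add_ncard_compl s
        omega
      · rw [hs, hcard]; exact hne2
    have h2 := hM0 _ ⟨h1, hRs⟩
    exact not_stab_le_part hp3 hm hf s (by rw [hs, hcard]; exact hne2) (by rw [h2, ← hM1])
  -- the top digit
  have hlog := not_dvd_choose_pow_log (p := p) (n := p * m) (by omega)
  set k := Nat.log p (p * m) with hk
  have hk1 : p ^ k ≤ p * m := Nat.pow_log_le_self p (by omega)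
  have hk0 : 1 ≤ k := by
    rw [hk]
    exact Nat.log_pos hp.out.one_lt (Nat.le_mul_of_pos_right p hm1)
  have hcases : p * m = p ^ k ∨ p * m = 2 * p ^ k := by
    rcases hk1.eq_or_lt with h | h
    · exact Or.inl h.symm
    · exact Or.inr (key _ (pow_pos hp.out.pos k) h hlog)
  -- the second partition
  have hnested : ∀ m' : ℕ, 2 ≤ m' → m ≠ p * m' := by
    intro m' hm' hmm
    subst hmm
    obtain ⟨f1, h1, hf1, hh1, hf2, hR1, hR2⟩ := exists_part2 (R.map (alternatingGroup α).subtype) hmap
      (by omega : 1 ≤ m') hα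
    have e1 := hM0 _ ⟨isCoatom_part_alt h8 (by omega : 2 ≤ p) hm hf1, le_subgroupOf hR1⟩
    have e2 := hM0 _ ⟨isCoatom_part_alt h8 (by nlinarith only [hp3] : 2 ≤ p * p) hm' hf2, le_subgroupOf hR2⟩
    exact not_part_le_part (by omega) (by omega) hf1 hh1 (by rw [e1]; exact e2.le)
  rcases hcases with h | h
  · right
    obtain ⟨l, hl⟩ : ∃ l, k = l + 1 := ⟨k - 1, by omega⟩
    rw [hl, pow_succ'] at h
    have h2 : m = p ^ l := Nat.eq_of_mul_eq_mul_left hp.out.pos h
    rcases Nat.lt_or_ge l 2 with h3 | h3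
    · interval_cases l
      · simp only [pow_zero] at h2
        omega
      · rw [pow_one] at h2
        rw [h2, sq]
    · exfalso
      obtain ⟨l', rfl⟩ : ∃ l', l = l' + 1 + 1 := ⟨l - 2, by omega⟩
      refine hnested (p ^ (l' + 1)) ?_ (by rw [h2, pow_succ' p (l' + 1)])
      calc 2 ≤ p := by omega
        _ = p ^ 1 := (pow_one p).symm
        _ ≤ p ^ (l' + 1) := Nat.pow_le_pow_right hp.out.pos (by omega)
  · left
    obtain ⟨l, hl⟩ : ∃ l, k = l + 1 := ⟨k - 1, by omega⟩
    rw [hl, pow_succ'] at h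
    have h2 : m = 2 * p ^ l := by
      apply Nat.eq_of_mul_eq_mul_left hp.out.pos
      rw [h]; ring
    rcases Nat.eq_zero_or_pos l with h3 | h3
    · rw [h3, pow_zero, mul_one] at h2
      rw [h2, mul_comm]
    · exfalso
      obtain ⟨l', rfl⟩ : ∃ l', l = l' + 1 := ⟨l - 1, by omega⟩
      refine hnested (2 * p ^ l') ?_ (by rw [h2]; ring)
      have : 1 ≤ p ^ l' := pow_pos hp.out.pos l'
      omega

/-- the stabilizer of a point determines the point, up to complement -/
theorem eq_of_stab_le {x : α} {s : Set α} (h4 : 4 ≤ Fintype.card α)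
    (hs : stabilizer (alternatingGroup α) ({x} : Set α) ≤ stabilizer (alternatingGroup α) s) :
    s = ∅ ∨ s = {x} ∨ s = {x}ᶜ ∨ s = Set.univ := by
  -- all points different from `x` behave in the same way
  have key : ∀ y z : α, y ≠ x → z ≠ x → y ∈ s → z ∈ s := by
    intro y z hy hz hys
    rcases eq_or_ne y z with rfl | hyz
    · exact hys
    obtain ⟨w, hw⟩ : ∃ w : α, w ∉ ({x, y, z} : Finset α) := by
      by_contra hcon
      push Not at hcon
      have h4 : Finset.univ ⊆ ({x, y, z} : Finset α) := fun w _ => hcon w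
      have h5 := (Finset.card_le_card h4).trans (Finset.card_le_three)
      rw [Finset.card_univ] at h5
      omega
    simp only [Finset.mem_insert, Finset.mem_singleton, not_or] at hw
    have h1 : (⟨c3 y z w, c3_mem_alt hyz (Ne.symm hw.2.2)⟩ : alternatingGroup α) ∈
        stabilizer (alternatingGroup α) ({x} : Set α) := by
      rw [mem_stabilizer_iff]
      show c3 y z w • ({x} : Set α) = {x}
      rw [Set.smul_set_singleton]
      show ({c3 y z w x} : Set α) = {x}
      rw [c3_apply_other hy.symm hz.symm (Ne.symm hw.1)]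
    have h2 := hs h1
    rw [mem_stabilizer_iff] at h2
    have h3 : c3 y z w • y ∈ s := by
      have : c3 y z w • y ∈ c3 y z w • s := Set.smul_mem_smul_set hys
      have h4 : c3 y z w • s = s := h2
      rwa [h4] at this
    have h4 : c3 y z w • y = z := c3_apply_left hyz (Ne.symm hw.2.1)
    rwa [h4] at h3
  by_cases hxs : x ∈ s
  · by_cases h : ∃ y ∈ s, y ≠ x
    · obtain ⟨y, hy, hyx⟩ := h
      right; right; right
      rw [Set.eq_univ_iff_forall]
      intro z
      rcases eq_or_ne z x with rfl | hz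
      · exact hxs
      · exact key y z hyx hz hy
    · push Not at h
      right; left
      ext z
      constructor
      · intro hz
        exact h z hz
      · rintro rfl
        exact hxs
  · by_cases h : ∃ y ∈ s, y ≠ x
    · obtain ⟨y, hy, hyx⟩ := h
      right; right; left
      ext z
      constructor
      · intro hz hzx
        exact hxs (by rw [← (show z = x from hzx)]; exact hz)
      · intro hz
        exact key y z hyx hz hy
    · push Not at h
      left
      rw [Set.eq_empty_iff_forall_notMem]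
      intro z hz
      exact hxs (by rw [← h z hz]; exact hz)

/-- Necessity when `r ∤ n`. -/
theorem fwd_ndvd {p : ℕ} [hp : Fact p.Prime] (hp2 : p ≠ 2) {n : ℕ} (hα : Fintype.card α = n) (hpn : ¬ p ∣ n) (hle : p ≤ n)
    (hn : 7 ≤ n) (R : Subgroup (alternatingGroup α)) (hR : IsPGroup p R)
    (hu : ∃! M : Subgroup (alternatingGroup α), IsCoatom M ∧ R ≤ M) :
    ∃ k, 1 ≤ k ∧ n = p ^ k + 1 ∧ ∃ x : α, ∀ X : Subgroup (alternatingGroup α), X ≠ ⊤ → R ≤ X →
      X ≤ stabilizer (alternatingGroup α) ({x} : Set α) := by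
  obtain ⟨M0, -, hM0⟩ := hu
  have hcard : Nat.card α = n := by rw [Nat.card_eq_fintype_card, hα]
  have hco : ∀ j : ℕ, 0 < j → j < n → n ≠ 2 * j → ¬ p ∣ n.choose j → ∃ s : Set α, s.ncard = j ∧
      IsCoatom (stabilizer (alternatingGroup α) s) ∧ R ≤ stabilizer (alternatingGroup α) s := by
    intro j hj0 hj hne hj2
    obtain ⟨s, hs, hRs⟩ := Cfsg.Agent.H99.exists_set (α := α) R hR j (by rwa [hα])
    refine ⟨s, hs, alternatingGroup.isCoatom_stabilizer ?_ ?_ ?_, hRs⟩
    · rw [← Set.ncard_pos]; omega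
    · rw [← Set.ncard_pos]
      have := Set.ncard_add_ncard_compl s
      omega
    · rw [hs, hcard]; exact hne
  obtain ⟨s1, hs1, hc1, hR1⟩ := hco 1 (by omega) (by omega) (by omega) (by rwa [Nat.choose_one_right])
  obtain ⟨x, rfl⟩ := Set.ncard_eq_one.1 hs1
  have h1 := hM0 _ ⟨hc1, hR1⟩
  set k := Nat.log p n with hk
  have hk1 : p ^ k ≤ n := Nat.pow_log_le_self p (by omega)
  have hk0 : 1 ≤ k := by
    rw [hk]
    exact Nat.log_pos hp.out.one_lt hle
  have hdk : p ∣ p ^ k := dvd_pow_self p (by omega)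
  have hlt : p ^ k < n := by
    rcases hk1.eq_or_lt with h | h
    · exact absurd (by rw [← h]; exact hdk) hpn
    · exact h
  obtain ⟨s2, hs2, hc2, hR2⟩ := hco (p ^ k) (pow_pos hp.out.pos k) hlt
    (by intro h; exact hpn (by rw [h]; exact hdk.mul_left 2)) (not_dvd_choose_pow_log (by omega))
  have h2 := hM0 _ ⟨hc2, hR2⟩
  have hkk : n = p ^ k + 1 := by
    have hpp : 3 ≤ p ^ k := by
      have h3 := Nat.le_of_dvd (pow_pos hp.out.pos k) hdk
      have h4 := hp.out.two_le
      omega
    rcases eq_of_stab_le (by omega : 4 ≤ Fintype.card α) (by rw [h1, ← h2] :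
      stabilizer (alternatingGroup α) ({x} : Set α) ≤ stabilizer (alternatingGroup α) s2) with h | h | h | h
    · rw [h, Set.ncard_empty] at hs2
      omega
    · rw [h, Set.ncard_singleton] at hs2
      omega
    · rw [h] at hs2
      have := Set.ncard_add_ncard_compl ({x} : Set α)
      rw [Set.ncard_singleton, hs2, hcard] at this
      omega
    · rw [h, Set.ncard_univ] at hs2
      omega
  refine ⟨k, hk0, hkk, x, fun X hX hRX => ?_⟩
  rw [h1]
  exact le_of_unique hM0 hX hRX

end

end Cfsg.Agent.H100.AltSyl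
end

-- part: H100/AltSyl/Back
section
/-!
# Unique maximal overgroups of Sylow subgroups of the alternating groups: sufficiency, `n ≠ r` (helper100)
-/

set_option autoImplicit false

namespace Cfsg.Agent.H100.AltSyl

open MulAction Equiv Equiv.Perm
open scoped Pointwise
open Cfsg.Agent.H942 (part mem_part isCoatom_part_alt)

section

variable {α : Type*} [Fintype α] [DecidableEq α] {p : ℕ} [hp : Fact p.Prime]

theorem dvd_card_orbit {G X : Type*} [Group G] [Finite G] [MulAction G X] (R : Sylow p G) (x : X) {j : ℕ}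
    (h : p ^ j ∣ Nat.card (orbit G x)) : p ^ j ∣ Nat.card (orbit (R : Subgroup G) x) := by
  have hf1 : Finite (orbit G x) := Finite.of_surjective (fun g : G => (⟨g • x, mem_orbit x g⟩ : orbit G x))
    (by rintro ⟨_, g, rfl⟩; exact ⟨g, rfl⟩)
  have hne : Nonempty (orbit G x) := ⟨⟨x, mem_orbit_self x⟩⟩
  refine dvd_trans (pow_dvd_pow p ?_) (pow_dvd_card_orbit R x)
  exact (hp.out.pow_dvd_iff_le_factorization Nat.card_pos.ne').1 h

/-- A Sylow subgroup contains a `p`-cycle. -/
theorem exists_cycle (hp2 : p ≠ 2) (hle : p ≤ Fintype.card α) (R : Sylow p (alternatingGroup α)) :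
    ∃ c : alternatingGroup α, c ∈ (R : Subgroup (alternatingGroup α)) ∧ (c : Perm α).IsCycle ∧
      (c : Perm α).support.card = p := by
  obtain ⟨c, hc⟩ := (exists_with_cycleType_iff α (m := {p})).mpr (by
    refine ⟨by rw [Multiset.sum_singleton]; exact hle, fun a ha => ?_⟩
    rw [Multiset.mem_singleton.1 ha]
    exact hp.out.two_le)
  have hcyc : c.IsCycle := by
    rw [← card_cycleType_eq_one, hc]
    rfl
  have hsup : c.support.card = p := by
    rw [← sum_cycleType, hc, Multiset.sum_singleton]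
  have hcA : c ∈ alternatingGroup α := by
    rw [mem_alternatingGroup, hcyc.sign, hsup]
    have := hp.out.odd_of_ne_two hp2
    rw [this.neg_one_pow, neg_neg]
  have hord : orderOf (⟨c, hcA⟩ : alternatingGroup α) = p := by
    rw [Subgroup.orderOf_mk, hcyc.orderOf, hsup]
  have hpg : IsPGroup p (Subgroup.zpowers (⟨c, hcA⟩ : alternatingGroup α)) := by
    apply IsPGroup.of_card (n := 1)
    rw [Nat.card_zpowers, hord, pow_one]
  obtain ⟨g, hg⟩ := Cfsg.Agent.H99.exists_conj_le (p := p) _ (R : Subgroup (alternatingGroup α)) hpg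
    R.not_dvd_index
  refine ⟨_, hg _ (Subgroup.mem_zpowers _), ?_, ?_⟩
  · have : (((g⁻¹ * ⟨c, hcA⟩ * g : alternatingGroup α)) : Perm α) = (g : Perm α)⁻¹ * c * ((g : Perm α)⁻¹)⁻¹ := by
      simp only [_root_.Subgroup.coe_mul, _root_.InvMemClass.coe_inv, _root_.inv_inv]
    rw [this]
    exact hcyc.conj
  · have : (((g⁻¹ * ⟨c, hcA⟩ * g : alternatingGroup α)) : Perm α) = (g : Perm α)⁻¹ * c * ((g : Perm α)⁻¹)⁻¹ := by
      simp only [_root_.Subgroup.coe_mul, _root_.InvMemClass.coe_inv, _root_.inv_inv]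
    rw [this, Perm.card_support_conj, hsup]

/-- Jordan's theorem for proper overgroups. -/
theorem not_primitive {M : Subgroup (alternatingGroup α)} (hM : M ≠ ⊤) {c : alternatingGroup α} (hc : c ∈ M)
    (hcyc : (c : Perm α).IsCycle) (hsup : (c : Perm α).support.card = p) (h5 : 5 ≤ Fintype.card α)
    (h3 : p + 3 ≤ Fintype.card α) : ¬ IsPreprimitive M α := by
  intro hprim
  have h1 : IsPreprimitive (M.map (alternatingGroup α).subtype) α := by
    let φ : M →* M.map (alternatingGroup α).subtype :=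
      { toFun := fun m => ⟨(m : alternatingGroup α), ⟨m, m.2, rfl⟩⟩
        map_one' := rfl
        map_mul' := fun _ _ => rfl }
    exact IsPreprimitive.of_surjective (f := (⟨id, fun _ _ => rfl⟩ : α →ₑ[φ] α)) Function.surjective_id
  have h2 := Cfsg.Agent.S0713.result _ h1 hp.out h5 h3 hcyc hsup ⟨c, hc, rfl⟩
  apply hM
  rw [eq_top_iff]
  intro a _
  obtain ⟨b, hb, hab⟩ := h2 a.2
  have : a = b := Subtype.ext hab.symm
  rw [this]
  exact hb

/-- A nontrivial block through a given point. -/
theorem exists_block {M : Subgroup (alternatingGroup α)} (hM : M ≠ ⊤) {c : alternatingGroup α} (hc : c ∈ M)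
    (hcyc : (c : Perm α).IsCycle) (hsup : (c : Perm α).support.card = p) (h5 : 5 ≤ Fintype.card α)
    (h3 : p + 3 ≤ Fintype.card α) (htr : IsPretransitive M α) (a : α) :
    ∃ B : Set α, a ∈ B ∧ IsBlock M B ∧ ¬ B.Subsingleton ∧ B ≠ Set.univ := by
  by_contra hcon
  push Not at hcon
  apply not_primitive hM hc hcyc hsup h5 h3
  refine IsPreprimitive.of_isTrivialBlock_base a ?_
  intro B ha hB
  by_cases h : B.Subsingleton
  · exact Or.inl h
  · exact Or.inr (hcon B ha hB (Set.not_subsingleton_iff.1 h))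

/-- A block through a fixed point of the cycle contains the support or avoids it. -/
theorem support_subset {M : Subgroup (alternatingGroup α)} {c : alternatingGroup α} (hc : c ∈ M)
    (hcyc : (c : Perm α).IsCycle) {B : Set α} (hB : IsBlock M B) {y z : α} (hy : y ∈ B) (hyc : (c : Perm α) y = y)
    (hz : z ∈ B) (hzc : (c : Perm α) z ≠ z) : ∀ w : α, (c : Perm α) w ≠ w → w ∈ B := by
  intro w hw
  obtain ⟨i, hi⟩ := (hcyc.sameCycle hzc hw)
  have h1 : ((⟨c, hc⟩ : M) ^ i) • B = B := by
    refine hB.smul_eq_of_mem (a := y) hy ?_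
    have h2 : ((c : Perm α) ^ i) y = y := zpow_apply_eq_self_of_apply_eq_self hyc i
    have h3 : ((⟨c, hc⟩ : M) ^ i) • y = y := h2
    rw [h3]
    exact hy
  have h4 : ((⟨c, hc⟩ : M) ^ i) • z ∈ ((⟨c, hc⟩ : M) ^ i) • B := Set.smul_mem_smul_set hz
  rw [h1] at h4
  have h5 : ((⟨c, hc⟩ : M) ^ i) • z = w := hi
  rwa [h5] at h4

omit hp in
/-- A block of size `p` meeting the support of the cycle is the support. -/
theorem block_eq_support {M : Subgroup (alternatingGroup α)} {c : alternatingGroup α} (hc : c ∈ M)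
    (hcyc : (c : Perm α).IsCycle) (hsup : (c : Perm α).support.card = p) {B : Set α} (hB : IsBlock M B)
    (hBp : B.ncard = p) {z : α} (hz : z ∈ B) (hzc : (c : Perm α) z ≠ z) : B = {w | (c : Perm α) w ≠ w} := by
  have hS : ({w | (c : Perm α) w ≠ w} : Set α).ncard = p := by
    have : ({w | (c : Perm α) w ≠ w} : Set α) = ((c : Perm α).support : Set α) := by
      ext w; simp
    rw [this, Set.ncard_coe_finset, hsup]
  refine Set.eq_of_subset_of_ncard_le ?_ ?_ (Set.toFinite _)
  · intro y hy hyc
    have h1 := support_subset hc hcyc hB hy hyc hz hzc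
    have h2 : insert y ({w | (c : Perm α) w ≠ w} : Set α) ⊆ B := by
      intro w hw
      rcases hw with rfl | hw
      · exact hy
      · exact h1 w hw
    have h3 := Set.ncard_le_ncard h2
    rw [Set.ncard_insert_of_notMem (by simpa using hyc), hS, hBp] at h3
    omega
  · rw [hS, hBp]

/-! ### `n = p ^ k + 1` -/

/-- Sylow subgroups of the alternating group of degree `p ^ k + 1` are transitive on the points different from the fixed one. -/
theorem transitive_rest {k : ℕ} (hα : Fintype.card α = p ^ k + 1) (h4 : 4 ≤ Fintype.card α)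
    (R : Sylow p (alternatingGroup α)) {x : α} (hx : ∀ r ∈ (R : Subgroup (alternatingGroup α)), (r : Perm α) x = x)
    {y z : α} (hy : y ≠ x) (hz : z ≠ x) : ∃ r ∈ (R : Subgroup (alternatingGroup α)), (r : Perm α) y = z := by
  have h2t : IsMultiplyPretransitive (alternatingGroup α) α 2 := by
    have := alternatingGroup.isMultiplyPretransitive α
    exact isMultiplyPretransitive_of_le (n := Nat.card α - 2) (by rw [Nat.card_eq_fintype_card]; omega)
      (Nat.sub_le _ _)
  have h1 : orbit (alternatingGroup α) ((x, y) : α × α) = {q : α × α | q.1 ≠ q.2} := by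
    ext ⟨u, v⟩
    constructor
    · rintro ⟨g, hg⟩
      have e1 : g • x = u := congrArg Prod.fst hg
      have e2 : g • y = v := congrArg Prod.snd hg
      show u ≠ v
      rw [← e1, ← e2]
      exact fun h => hy (MulAction.injective g h).symm
    · intro huv
      obtain ⟨g, h1, h2⟩ := (is_two_pretransitive_iff.1 h2t) (Ne.symm hy) (show u ≠ v from huv)
      exact ⟨g, Prod.ext h1 h2⟩
  have h2 : Nat.card (orbit (alternatingGroup α) ((x, y) : α × α)) = (p ^ k + 1) * p ^ k := by
    rw [h1]
    have e1 : ({q : α × α | q.1 ≠ q.2} : Set (α × α)) = ((Finset.univ : Finset α).offDiag : Set (α × α)) := by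
      ext q; simp only [_root_.ne_eq, _root_.Set.mem_ofPred_eq, _root_.Finset.coe_offDiag, _root_.Finset.coe_univ, _root_.Set.offDiag_univ, _root_.Set.mem_compl_iff, _root_.Set.mem_diagonal_iff]
    rw [e1, Nat.card_coe_set_eq, Set.ncard_coe_finset, Finset.offDiag_card, Finset.card_univ, hα]
    rw [Nat.mul_comm, ← Nat.sub_one_mul, Nat.add_sub_cancel]
    ring
  have h3 := dvd_card_orbit R ((x, y) : α × α) (j := k) (by rw [h2]; exact Dvd.intro_left _ rfl)
  have h5 : Nat.card (orbit (R : Subgroup (alternatingGroup α)) ((x, y) : α × α)) =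
      (orbit (R : Subgroup (alternatingGroup α)) y).ncard := by
    rw [← Nat.card_coe_set_eq]
    refine Nat.card_congr (Equiv.ofBijective (fun q => ⟨q.1.2, ?_⟩) ⟨?_, ?_⟩)
    · obtain ⟨r, hr⟩ := q.2
      exact ⟨r, congrArg Prod.snd hr⟩
    · rintro ⟨q, ⟨r, hr⟩⟩ ⟨q', ⟨r', hr'⟩⟩ h
      have e0 : q.2 = q'.2 := congrArg Subtype.val h
      have e1 : (r : Perm α) x = q.1 := congrArg Prod.fst hr
      have e2 : (r' : Perm α) x = q'.1 := congrArg Prod.fst hr'
      apply Subtype.ext
      refine Prod.ext ?_ e0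
      show q.1 = q'.1
      rw [← e1, ← e2, hx r r.2, hx r' r'.2]
    · rintro ⟨_, ⟨r, rfl⟩⟩
      exact ⟨⟨r • (x, y), ⟨r, rfl⟩⟩, rfl⟩
  rw [h5] at h3
  have h6 : orbit (R : Subgroup (alternatingGroup α)) y ⊆ ({x}ᶜ : Set α) := by
    rintro _ ⟨r, rfl⟩ h
    have e1 : (r : Perm α) y = x := h
    have e2 := hx r r.2
    exact hy ((r : Perm α).injective (e1.trans e2.symm))
  have h7 : ({x}ᶜ : Set α).ncard = p ^ k := by
    have := Set.ncard_add_ncard_compl ({x} : Set α)
    rw [Set.ncard_singleton, Nat.card_eq_fintype_card, hα] at this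
    omega
  have h8 : orbit (R : Subgroup (alternatingGroup α)) y = ({x}ᶜ : Set α) := by
    apply Set.eq_of_subset_of_ncard_le h6
    rw [h7]
    apply Nat.le_of_dvd _ h3
    rw [Set.ncard_pos]
    exact ⟨y, mem_orbit_self y⟩
  have h9 : z ∈ orbit (R : Subgroup (alternatingGroup α)) y := by rw [h8]; exact hz
  obtain ⟨r, hr⟩ := h9
  exact ⟨r, r.2, hr⟩

/-- `n = p ^ k + 1`, `k ≥ 2`. -/
theorem back_succ (hp2 : p ≠ 2) {k : ℕ} (hk : 2 ≤ k) (hα : Fintype.card α = p ^ k + 1) (h7 : 7 ≤ Fintype.card α)
    (R : Sylow p (alternatingGroup α)) :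
    ∃! M : Subgroup (alternatingGroup α), IsCoatom M ∧ (R : Subgroup (alternatingGroup α)) ≤ M := by
  have hp3 : 3 ≤ p := by
    have := hp.out.two_le
    omega
  have hpk : p ^ 2 ≤ p ^ k := Nat.pow_le_pow_right hp.out.pos hk
  have hnd : ¬ p ∣ (Fintype.card α).choose 1 := by
    rw [Nat.choose_one_right, hα]
    intro h
    have h1 := (Nat.dvd_add_right (dvd_pow_self p (by omega : k ≠ 0))).1 h
    exact hp.out.one_lt.ne' (Nat.dvd_one.1 h1)
  obtain ⟨s, hs, hRs⟩ := Cfsg.Agent.H99.exists_set (α := α) (R : Subgroup (alternatingGroup α)) R.isPGroup' 1 hnd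
  obtain ⟨x, rfl⟩ := Set.ncard_eq_one.1 hs
  have hx : ∀ r ∈ (R : Subgroup (alternatingGroup α)), (r : Perm α) x = x := by
    intro r hr
    have := hRs hr
    rw [stabilizer_singleton, mem_stabilizer_iff] at this
    exact this
  have hco : IsCoatom (stabilizer (alternatingGroup α) ({x} : Set α)) := by
    refine alternatingGroup.isCoatom_stabilizer (Set.singleton_nonempty x) ?_ ?_
    · rw [← Set.ncard_pos]
      have := Set.ncard_add_ncard_compl ({x} : Set α)
      rw [Set.ncard_singleton, Nat.card_eq_fintype_card] at this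
      omega
    · rw [Set.ncard_singleton, Nat.card_eq_fintype_card]; omega
  refine existsUnique_of hco.1 hRs ?_
  intro M hM hRM
  by_contra hnle
  obtain ⟨c, hc, hcyc, hsup⟩ := exists_cycle hp2 (by nlinarith only [hα, hpk] : p ≤ Fintype.card α) R
  obtain ⟨m, hm, hmx⟩ := SetLike.not_le_iff_exists.1 hnle
  have hmx' : (m : Perm α) x ≠ x := by
    intro h
    apply hmx
    rw [stabilizer_singleton, mem_stabilizer_iff]
    exact h
  -- transitivity
  have htr : IsPretransitive M α := by
    rw [isPretransitive_iff_base x]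
    intro y
    rcases eq_or_ne y x with rfl | hy
    · exact ⟨1, one_smul _ _⟩
    · obtain ⟨r, hr, hry⟩ := transitive_rest hα (by omega) R hx hmx' hy
      exact ⟨⟨r * m, M.mul_mem (hRM hr) hm⟩, hry⟩
  refine not_primitive hM.1 (hRM hc) hcyc hsup (by omega) (by nlinarith only [hα, hp3, hpk]) ?_
  refine IsPreprimitive.of_isTrivialBlock_base x ?_
  intro B hxB hB
  by_cases h : B.Subsingleton
  · exact Or.inl h
  right
  obtain ⟨y, hy, hyx⟩ : ∃ y ∈ B, y ≠ x := by
    by_contra hcon
    push Not at hcon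
    exact h (fun a ha b hb => (hcon a ha).trans (hcon b hb).symm)
  rw [Set.eq_univ_iff_forall]
  intro z
  rcases eq_or_ne z x with rfl | hz
  · exact hxB
  obtain ⟨r, hr, hrz⟩ := transitive_rest hα (by omega) R hx hyx hz
  have h1 : (⟨r, hRM hr⟩ : M) • B = B := by
    refine hB.smul_eq_of_mem (a := x) hxB ?_
    have : (⟨r, hRM hr⟩ : M) • x = x := hx r hr
    rw [this]
    exact hxB
  have h2 : (⟨r, hRM hr⟩ : M) • y ∈ (⟨r, hRM hr⟩ : M) • B := Set.smul_mem_smul_set hy
  rw [h1] at h2
  have h3 : (⟨r, hRM hr⟩ : M) • y = z := hrz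
  rwa [h3] at h2

/-! ### `n = p ^ 2` -/

/-- an element of `part f` maps fibres to fibres, so fibres are blocks -/
theorem isBlock_fibre {m : ℕ} {f : α → Fin m} {M : Subgroup (alternatingGroup α)}
    (hM : ∀ g ∈ M, (g : Perm α) ∈ part f) (i : Fin m) : IsBlock M {x : α | f x = i} := by
  rw [isBlock_iff_smul_eq_of_mem]
  intro g a ha hga
  have h1 : ∀ g : M, ∀ a : α, f a = i → f (g • a) = i → ∀ b : α, f b = i → f (g • b) = i := by
    intro g a ha hga b hb
    have h2 := (mem_part.1 (hM g g.2) a b).1 (ha.trans hb.symm)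
    exact h2.symm.trans hga
  ext y
  constructor
  · rintro ⟨b, hb, rfl⟩
    exact h1 g a ha hga b hb
  · intro hy
    refine ⟨g⁻¹ • y, ?_, smul_inv_smul g y⟩
    exact h1 g⁻¹ (g • a) hga (by rw [inv_smul_smul]; exact ha) y hy

theorem back_sq (hp2 : p ≠ 2) (hα : Fintype.card α = p ^ 2) (h7 : 7 ≤ Fintype.card α)
    (R : Sylow p (alternatingGroup α)) :
    ∃! M : Subgroup (alternatingGroup α), IsCoatom M ∧ (R : Subgroup (alternatingGroup α)) ≤ M := by
  have hp3 : 3 ≤ p := by
    have := hp.out.two_le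
    omega
  have hmap := isPGroup_map (R : Subgroup (alternatingGroup α)) R.isPGroup'
  obtain ⟨f, hf, hRf⟩ := exists_part ((R : Subgroup (alternatingGroup α)).map (alternatingGroup α).subtype) hmap
    (m := p) (by omega) (by rw [hα, sq])
  have h8 : Fintype.card α ≠ 8 := by
    rw [hα]
    intro h
    have h1 : p < 3 := by nlinarith only [h]
    omega
  have hco := isCoatom_part_alt h8 (by omega : 2 ≤ p) (by omega : 2 ≤ p) hf
  have hRpart : ∀ g ∈ (R : Subgroup (alternatingGroup α)), (g : Perm α) ∈ part f := fun g hg => hRf ⟨g, hg, rfl⟩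
  obtain ⟨c, hc, hcyc, hsup⟩ := exists_cycle hp2 (by nlinarith only [hα] : p ≤ Fintype.card α) R
  obtain ⟨d, hd⟩ : ∃ d, (c : Perm α) d ≠ d := by
    by_contra hcon
    push Not at hcon
    exact hcyc.ne_one (Equiv.ext hcon)
  -- transitivity of `R`
  have hRtr : ∀ y z : α, ∃ r ∈ (R : Subgroup (alternatingGroup α)), (r : Perm α) y = z := by
    intro y z
    have hpre : IsPretransitive (alternatingGroup α) α :=
      alternatingGroup.isPretransitive_of_three_le_card α (by rw [Nat.card_eq_fintype_card]; omega)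
    have h1 : Nat.card (orbit (alternatingGroup α) y) = p ^ 2 := by
      rw [orbit_eq_univ, Nat.card_coe_set_eq, Set.ncard_univ, Nat.card_eq_fintype_card, hα]
    have h2 := dvd_card_orbit R y (j := 2) (by rw [h1])
    have h3 : orbit (R : Subgroup (alternatingGroup α)) y = Set.univ := by
      apply Set.eq_of_subset_of_ncard_le (Set.subset_univ _)
      rw [Set.ncard_univ, Nat.card_eq_fintype_card, hα]
      apply Nat.le_of_dvd _ h2
      rw [Nat.card_coe_set_eq, Set.ncard_pos]
      exact ⟨y, mem_orbit_self y⟩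
    have h4 : z ∈ orbit (R : Subgroup (alternatingGroup α)) y := by rw [h3]; trivial
    obtain ⟨r, hr⟩ := h4
    exact ⟨r, r.2, hr⟩
  -- the support of `c` is a fibre
  have hfib : {x : α | f x = f d} = {w | (c : Perm α) w ≠ w} :=
    block_eq_support hc hcyc hsup (isBlock_fibre hRpart (f d)) (hf (f d)) rfl hd
  refine existsUnique_of hco.1 (le_subgroupOf hRf) ?_
  intro M hM hRM
  have htr : IsPretransitive M α := ⟨fun y z => by
    obtain ⟨r, hr, hrz⟩ := hRtr y z
    exact ⟨⟨r, hRM hr⟩, hrz⟩⟩
  obtain ⟨B, hdB, hB, hB1, hB2⟩ := exists_block hM.1 (hRM hc) hcyc hsup (by omega) (by nlinarith only [hα, hp3]) htr d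
  have hBp : B.ncard = p := by
    have h1 : B.ncard ∣ p ^ 2 := by
      rw [← hα, ← Nat.card_eq_fintype_card]
      exact hB.ncard_dvd_card ⟨d, hdB⟩
    obtain ⟨j, hj, hj'⟩ := (Nat.dvd_prime_pow hp.out).1 h1
    interval_cases j
    · exfalso
      apply hB1
      rw [pow_zero] at hj'
      exact Set.ncard_le_one_iff_subsingleton.1 hj'.le
    · rw [hj', pow_one]
    · exfalso
      apply hB2
      rw [Set.eq_univ_iff_ncard, hj', Nat.card_eq_fintype_card, hα]
  have hBS := block_eq_support (hRM hc) hcyc hsup hB hBp hdB hd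
  rw [← hfib] at hBS
  -- `M` preserves the fibres
  have key : ∀ g ∈ M, ∀ x y : α, f x = f y → f ((g : Perm α) x) = f ((g : Perm α) y) := by
    intro g hg x y hxy
    obtain ⟨r, hr, hrx⟩ := hRtr d x
    obtain ⟨r', hr', hrz⟩ := hRtr d ((g : Perm α) x)
    -- `y ∈ r B`
    have hy : ∃ b ∈ B, (r : Perm α) b = y := by
      refine ⟨(r : Perm α)⁻¹ y, ?_, by simp⟩
      rw [hBS]
      have h1 := (mem_part.1 ((part f).inv_mem (hRpart r hr)) x y).1 hxy
      show f ((r : Perm α)⁻¹ y) = f d
      rw [← h1, ← hrx]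
      simp
    obtain ⟨b, hb, hby⟩ := hy
    let g' : M := ⟨g, hg⟩
    let s : M := ⟨r, hRM hr⟩
    let s' : M := ⟨r', hRM hr'⟩
    have h1 : (s'⁻¹ * g' * s) • B = B := by
      refine hB.smul_eq_of_mem (a := d) hdB ?_
      have e1 : (s'⁻¹ * g' * s) • d = d := by
        rw [mul_smul, mul_smul]
        have e2 : s • d = x := hrx
        have e3 : g' • x = (g : Perm α) x := rfl
        have e4 : s' • d = (g : Perm α) x := hrz
        rw [e2, e3, ← e4, inv_smul_smul]
      rw [e1]; exact hdB
    have h2 : (s'⁻¹ * g' * s) • b ∈ B := by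
      have : (s'⁻¹ * g' * s) • b ∈ (s'⁻¹ * g' * s) • B := Set.smul_mem_smul_set hb
      rwa [h1] at this
    have h3 : f ((s'⁻¹ * g' * s) • b) = f d := by
      rw [hBS] at h2
      exact h2
    have h4 := (mem_part.1 (hRpart r' hr') _ _).1 h3
    have h5 : (r' : Perm α) ((s'⁻¹ * g' * s) • b) = (g : Perm α) y := by
      have e1 : (r' : Perm α) ((s'⁻¹ * g' * s) • b) = s' • (s'⁻¹ * g' * s) • b := rfl
      rw [e1, mul_smul, mul_smul, smul_inv_smul]
      show (g : Perm α) ((r : Perm α) b) = _
      rw [hby]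
    rw [h5, hrz] at h4
    exact h4.symm
  intro g hg
  rw [Subgroup.mem_subgroupOf]
  refine ⟨?_, g.2⟩
  show (g : Perm α) ∈ part f
  rw [mem_part]
  intro x y
  constructor
  · exact key g hg x y
  · intro h
    have h1 := key g⁻¹ (M.inv_mem hg) _ _ h
    simpa using h1

/-! ### `n = 2 p` -/

theorem back_two_mul (hp2 : p ≠ 2) (hα : Fintype.card α = 2 * p) (h7 : 7 ≤ Fintype.card α)
    (R : Sylow p (alternatingGroup α)) :
    ∃! M : Subgroup (alternatingGroup α), IsCoatom M ∧ (R : Subgroup (alternatingGroup α)) ≤ M := by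
  have hp3 : 4 ≤ p := by omega
  have hp4 : p ≠ 4 := by
    rintro rfl
    exact absurd hp.out (by norm_num)
  have hcard : Nat.card α = 2 * p := by rw [Nat.card_eq_fintype_card, hα]
  -- orbits of `R`
  have horb : ∀ y : α, p ∣ (orbit (R : Subgroup (alternatingGroup α)) y).ncard := by
    intro y
    have hpre : IsPretransitive (alternatingGroup α) α :=
      alternatingGroup.isPretransitive_of_three_le_card α (by rw [Nat.card_eq_fintype_card]; omega)
    have h1 : Nat.card (orbit (alternatingGroup α) y) = 2 * p := by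
      rw [orbit_eq_univ, Nat.card_coe_set_eq, Set.ncard_univ, hcard]
    have h2 := dvd_card_orbit R y (j := 1) (by rw [h1, pow_one]; exact dvd_mul_left _ _)
    rwa [pow_one, Nat.card_coe_set_eq] at h2
  -- the invariant set
  have hnd : ¬ p ∣ (Fintype.card α).choose p := by
    have h1 := not_dvd_choose_pow_log (p := p) (n := Fintype.card α) (by omega)
    have h2 : Nat.log p (Fintype.card α) = 1 := by
      rw [Nat.log_eq_one_iff]
      refine ⟨by rw [hα]; nlinarith only [hp3], hp.out.one_lt, by omega⟩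
    rwa [h2, pow_one] at h1
  obtain ⟨Δ, hΔ, hRΔ⟩ := Cfsg.Agent.H99.exists_set (α := α) (R : Subgroup (alternatingGroup α)) R.isPGroup' p hnd
  have hΔc : (Δᶜ).ncard = p := by
    have := Set.ncard_add_ncard_compl Δ
    omega
  have hinv : ∀ (S : Set α), (∀ r ∈ (R : Subgroup (alternatingGroup α)), r • S = S) → S.ncard = p → ∀ y ∈ S,
      orbit (R : Subgroup (alternatingGroup α)) y = S := by
    intro S hS hSp y hy
    refine Set.eq_of_subset_of_ncard_le ?_ ?_ (Set.toFinite _)
    · rintro _ ⟨r, rfl⟩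
      have h1 : (r : alternatingGroup α) • y ∈ (r : alternatingGroup α) • S := Set.smul_mem_smul_set hy
      rw [hS r r.2] at h1
      exact h1
    · rw [hSp]
      apply Nat.le_of_dvd _ (horb y)
      rw [Set.ncard_pos]
      exact ⟨y, mem_orbit_self y⟩
  obtain ⟨c, hc, hcyc, hsup⟩ := exists_cycle hp2 (by omega : p ≤ Fintype.card α) R
  obtain ⟨d, hd⟩ : ∃ d, (c : Perm α) d ≠ d := by
    by_contra hcon
    push Not at hcon
    exact hcyc.ne_one (Equiv.ext hcon)
  -- the orbit `D` of `d`
  obtain ⟨D, hdD, hDp, hRD⟩ : ∃ D : Set α, d ∈ D ∧ D.ncard = p ∧ ∀ r ∈ (R : Subgroup (alternatingGroup α)), r • D = D := by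
    by_cases h : d ∈ Δ
    · exact ⟨Δ, h, hΔ, fun r hr => mem_stabilizer_iff.1 (hRΔ hr)⟩
    · exact ⟨Δᶜ, h, hΔc, fun r hr => by rw [Set.smul_set_compl, mem_stabilizer_iff.1 (hRΔ hr)]⟩
  have hDc : (Dᶜ).ncard = p := by
    have := Set.ncard_add_ncard_compl D
    omega
  have hRDc : ∀ r ∈ (R : Subgroup (alternatingGroup α)), r • Dᶜ = Dᶜ := by
    intro r hr
    rw [Set.smul_set_compl, hRD r hr]
  -- the support of `c` is `D`
  have hS : ({w | (c : Perm α) w ≠ w} : Set α).ncard = p := by
    have : ({w | (c : Perm α) w ≠ w} : Set α) = ((c : Perm α).support : Set α) := by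
      ext w; simp
    rw [this, Set.ncard_coe_finset, hsup]
  have hSD : ({w | (c : Perm α) w ≠ w} : Set α) = D := by
    refine Set.eq_of_subset_of_ncard_le ?_ (by rw [hS, hDp]) (Set.toFinite _)
    intro w hw
    obtain ⟨i, hi⟩ := hcyc.sameCycle hd hw
    have h1 : (c ^ i : alternatingGroup α) • d ∈ (c ^ i : alternatingGroup α) • D := Set.smul_mem_smul_set hdD
    rw [hRD _ ((R : Subgroup (alternatingGroup α)).zpow_mem hc i)] at h1
    have h2 : (c ^ i : alternatingGroup α) • d = w := hi
    rwa [h2] at h1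
  obtain ⟨y0, hy0⟩ : (Dᶜ).Nonempty := by rw [← Set.ncard_pos, hDc]; (clear * - hα h7; omega)
  have hy0c : (c : Perm α) y0 = y0 := by
    by_contra h
    exact hy0 (hSD ▸ h : y0 ∈ D)
  -- the partition
  classical
  let f : α → Fin 2 := fun x => if x ∈ D then 0 else 1
  have hf0 : {x : α | f x = 0} = D := by
    ext x
    by_cases h : x ∈ D <;> simp [f, h]
  have hf1 : {x : α | f x = 1} = Dᶜ := by
    ext x
    by_cases h : x ∈ D <;> simp [f, h]
  have hfc : ∀ i : Fin 2, Nat.card {x : α // f x = i} = p := by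
    intro i
    fin_cases i
    · show Nat.card ({x : α | f x = 0} : Set α) = p
      rw [hf0, Nat.card_coe_set_eq, hDp]
    · show Nat.card ({x : α | f x = 1} : Set α) = p
      rw [hf1, Nat.card_coe_set_eq, hDc]
  have hpart : ∀ g : alternatingGroup α, (g • D = D ∨ g • D = Dᶜ) →
      g ∈ (part f ⊓ alternatingGroup α).subgroupOf (alternatingGroup α) := by
    intro g hg
    rw [Subgroup.mem_subgroupOf]
    refine ⟨?_, g.2⟩
    show (g : Perm α) ∈ part f
    rw [mem_part]
    have hmem : ∀ x, f x = 0 ↔ x ∈ D := fun x => by rw [← hf0]; rfl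
    have hfin : ∀ i j : Fin 2, i = j ↔ (i = 0 ↔ j = 0) := by decide
    have hgx : ∀ x, (x ∈ D ↔ (g : Perm α) x ∈ g • D) := fun x => (Set.smul_mem_smul_set_iff (a := g)).symm
    intro x y
    rw [hfin (f x), hfin (f ((g : Perm α) x)), hmem, hmem, hmem, hmem]
    rcases hg with h | h
    · rw [hgx x, hgx y, h]
    · rw [hgx x, hgx y, h, Set.mem_compl_iff, Set.mem_compl_iff, not_iff_not]
  have hco := isCoatom_part_alt (f := f) (by (clear * - hα hp4; omega)) (by (clear * - hα h7; omega) : 2 ≤ p) le_rfl hfc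
  refine existsUnique_of hco.1 (fun r hr => hpart r (Or.inl (hRD r hr))) ?_
  intro M hM hRM
  by_cases htr : IsPretransitive M α
  · -- transitive case
    obtain ⟨B, hyB, hB, hB1, hB2⟩ := exists_block hM.1 (hRM hc) hcyc hsup (by (clear * - h7; omega)) (by (clear * - hα h7; omega)) htr y0
    have hBD : B ⊆ Dᶜ := by
      intro z hz hzD
      have hzc : (c : Perm α) z ≠ z := by
        have : z ∈ ({w | (c : Perm α) w ≠ w} : Set α) := by rw [hSD]; exact hzD
        exact this
      have h1 := support_subset (hRM hc) hcyc hB hyB hy0c hz hzc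
      have h2 : insert y0 D ⊆ B := by
        intro w hw
        rcases hw with rfl | hw
        · exact hyB
        · exact h1 w (by
            have : w ∈ ({w | (c : Perm α) w ≠ w} : Set α) := by rw [hSD]; exact hw
            exact this)
      have h3 := Set.ncard_le_ncard h2
      rw [Set.ncard_insert_of_notMem hy0, hDp] at h3
      exact hB2 (hB.eq_univ_of_card_lt (by rw [hcard]; (clear * - h3; omega)))
    -- `B = Dᶜ` since `R` is primitive on `Dᶜ`
    have hRorb : orbit (R : Subgroup (alternatingGroup α)) y0 = Dᶜ := hinv _ hRDc hDc y0 hy0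
    have hBeq : B = Dᶜ := by
      have hprim : IsPreprimitive (R : Subgroup (alternatingGroup α)) (orbit (R : Subgroup (alternatingGroup α)) y0) := by
        apply IsPreprimitive.of_prime_card
        rw [Nat.card_coe_set_eq, hRorb, hDc]
        exact hp.out
      have hBR : IsBlock (R : Subgroup (alternatingGroup α)) B := by
        rw [isBlock_iff_smul_eq_of_mem]
        intro r a ha hra
        have h1 : (⟨r, hRM r.2⟩ : M) • B = B := hB.smul_eq_of_mem (a := a) ha hra
        exact h1
      have hblk : IsBlock (R : Subgroup (alternatingGroup α)) ((Subtype.val : orbit (R : Subgroup (alternatingGroup α)) y0 → α) ⁻¹' B) := by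
        rw [isBlock_iff_smul_eq_of_mem]
        intro r a ha hra
        have h1 : r • B = B := hBR.smul_eq_of_mem (a := (a : α)) ha hra
        ext z
        constructor
        · rintro ⟨w, hw, rfl⟩
          have h2 : r • (w : α) ∈ r • B := Set.smul_mem_smul_set hw
          rw [h1] at h2
          exact h2
        · intro hz
          refine ⟨r⁻¹ • z, ?_, smul_inv_smul r z⟩
          have h2 : (z : α) ∈ r • B := by rw [h1]; exact hz
          show r⁻¹ • (z : α) ∈ B
          exact Set.mem_smul_set_iff_inv_smul_mem.1 h2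
      rcases hprim.isTrivialBlock_of_isBlock hblk with h | h
      · exfalso
        apply hB1
        intro a ha b hb
        have ha' : a ∈ orbit (R : Subgroup (alternatingGroup α)) y0 := by rw [hRorb]; exact hBD ha
        have hb' : b ∈ orbit (R : Subgroup (alternatingGroup α)) y0 := by rw [hRorb]; exact hBD hb
        have := h (show (⟨a, ha'⟩ : orbit (R : Subgroup (alternatingGroup α)) y0) ∈ Subtype.val ⁻¹' B from ha)
          (show (⟨b, hb'⟩ : orbit (R : Subgroup (alternatingGroup α)) y0) ∈ Subtype.val ⁻¹' B from hb)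
        exact congrArg Subtype.val this
      · refine Set.Subset.antisymm hBD ?_
        intro z hz
        have hz' : z ∈ orbit (R : Subgroup (alternatingGroup α)) y0 := by rw [hRorb]; exact hz
        have : (⟨z, hz'⟩ : orbit (R : Subgroup (alternatingGroup α)) y0) ∈
          ((Subtype.val : orbit (R : Subgroup (alternatingGroup α)) y0 → α) ⁻¹' B) := by rw [h]; trivial
        exact this
    intro g hg
    apply hpart
    have h1 := hB.smul_eq_or_disjoint (⟨g, hg⟩ : M)
    have h2 : (⟨g, hg⟩ : M) • B = g • Dᶜ := by rw [hBeq]; rfl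
    rw [h2, hBeq, Set.smul_set_compl] at h1
    rcases h1 with h1 | h1
    · left
      exact compl_injective h1
    · right
      -- `(g D)ᶜ` is disjoint from `Dᶜ`
      have h3 : (g • D)ᶜ ⊆ D := by
        intro z hz
        by_contra hzD
        exact Set.disjoint_left.1 h1 hz hzD
      have h4 : (g • D)ᶜ = D := by
        refine Set.eq_of_subset_of_ncard_le h3 ?_ (Set.toFinite _)
        rw [hDp]
        have := Set.ncard_add_ncard_compl (g • D)
        rw [Set.ncard_smul_set, hDp, hcard] at this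
        (clear * - this; omega)
      have h5 := congrArg compl h4
      rwa [compl_compl] at h5
  · -- intransitive case
    intro g hg
    apply hpart
    left
    by_contra hne
    apply htr
    -- some `x ∈ D` is mapped outside `D`
    obtain ⟨x, hx, hgx⟩ : ∃ x ∈ D, (g : Perm α) x ∉ D := by
      by_contra hcon
      push Not at hcon
      apply hne
      refine Set.eq_of_subset_of_ncard_le ?_ ?_ (Set.toFinite _)
      · rintro _ ⟨x, hx, rfl⟩
        exact hcon x hx
      · rw [Set.ncard_smul_set]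
    rw [isPretransitive_iff_base x]
    intro z
    by_cases hz : z ∈ D
    · have h1 : z ∈ orbit (R : Subgroup (alternatingGroup α)) x := by rw [hinv D hRD hDp x hx]; exact hz
      obtain ⟨r, hr⟩ := h1
      exact ⟨⟨r, hRM r.2⟩, hr⟩
    · have h1 : z ∈ orbit (R : Subgroup (alternatingGroup α)) ((g : Perm α) x) := by
        rw [hinv Dᶜ hRDc hDc _ hgx]; exact hz
      obtain ⟨r, hr⟩ := h1
      exact ⟨⟨r * g, M.mul_mem (hRM r.2) hg⟩, hr⟩

end

end Cfsg.Agent.H100.AltSyl
end
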